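import Cfsg.Agent.H168.EP.Perm11
import Cfsg.Agent.H419.EP.Soc
import Cfsg.Agent.H839.EP.AltFrame

/-!
# S3499: `soc(A) = A_11, A_12, A_13` and an element of order 121 (helper168)
-/

set_option autoImplicit false

namespace Cfsg.Agent.H168.EP

open Equiv Equiv.Perm Subgroup Cfsg.Agent.H284 Cfsg.Agent.H419.EP Cfsg.Agent.H839.EP

variable {Q : Type*} [Group Q] [Finite Q] {A : Subgroup Q} {Γ : Subgroup (MulAut Q)}

/-- a cyclic group of order 121 as Sylow 11-subgroup -/
theorem exists_root {c y : Q} (hc : orderOf c = 121) (h11 : ¬ 11 ^ 3 ∣ Nat.card Q) (hy : orderOf y = 11) :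
    ∃ d : Q, orderOf d = 121 ∧ d * y = y * d ∧ d ^ 11 ∈ zpowers y ∧ d ^ 11 ≠ 1 := by
  have hf11 : Fact (Nat.Prime 11) := ⟨by norm_num⟩
  have hfac : (Nat.card Q).factorization 11 = 2 := by
    have h0 : Nat.card Q ≠ 0 := Nat.card_pos.ne'
    have h1 : 2 ≤ (Nat.card Q).factorization 11 := by
      rw [← (Nat.Prime.pow_dvd_iff_le_factorization (by norm_num) h0), show 11 ^ 2 = 121 by norm_num, ← hc]
      exact orderOf_dvd_natCard c
    have h2 : ¬ 3 ≤ (Nat.card Q).factorization 11 := by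
      rw [← (Nat.Prime.pow_dvd_iff_le_factorization (by norm_num) h0)]
      exact h11
    omega
  let S : Sylow 11 Q := Sylow.ofCard (zpowers c) (by rw [Nat.card_zpowers, hc, hfac]; norm_num)
  have hS : (S : Subgroup Q) = zpowers c := rfl
  have hpg : IsPGroup 11 (zpowers y) := IsPGroup.of_card (n := 1) (by rw [Nat.card_zpowers, hy, pow_one])
  obtain ⟨R, hR⟩ := hpg.exists_le_sylow
  obtain ⟨q, hq⟩ := MulAction.exists_smul_eq Q S R
  have h1 : y ∈ (R : Subgroup Q) := hR (mem_zpowers y)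
  rw [← hq, Sylow.coe_subgroup_smul, hS, Subgroup.mem_pointwise_smul_iff_inv_smul_mem] at h1
  obtain ⟨k, hk⟩ := Subgroup.mem_zpowers_iff.1 h1
  have hyk : y = (q * c * q⁻¹) ^ k := by
    rw [conj_zpow, hk]
    change y = q * ((MulAut.conj q)⁻¹ y) * q⁻¹
    rw [MulAut.conj_inv_apply]
    group
  have hd : orderOf (q * c * q⁻¹) = 121 := by
    have h1 := orderOf_injective (MulAut.conj q).toMonoidHom (MulAut.conj q).injective c
    rw [← hc, ← h1]
    rfl
  set d := q * c * q⁻¹ with hdd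
  have hd11 : orderOf (d ^ 11) = 11 := by
    rw [orderOf_pow, hd]
    rfl
  have h2 : (11 : ℤ) ∣ k := by
    have h3 : d ^ (k * 11) = 1 := by
      rw [zpow_mul, ← hyk]
      have h4 := pow_orderOf_eq_one y
      rw [hy] at h4
      exact_mod_cast h4
    have h4 : (121 : ℤ) ∣ k * 11 := by
      have h5 := orderOf_dvd_iff_zpow_eq_one.2 h3
      rw [hd] at h5
      exact_mod_cast h5
    omega
  obtain ⟨j, rfl⟩ := h2
  have h3 : y = (d ^ 11) ^ j := by
    rw [hyk, zpow_mul]
    norm_cast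
  have h4 : zpowers y = zpowers (d ^ 11) := by
    apply Subgroup.eq_of_le_of_card_ge
    · rw [zpowers_le, h3]
      exact Subgroup.zpow_mem_zpowers _ _
    · rw [Nat.card_zpowers, Nat.card_zpowers, hd11, hy]
  refine ⟨d, hd, ?_, ?_, ?_⟩
  · rw [hyk]
    exact ((Commute.refl d).zpow_right _).eq
  · rw [h4]
    exact mem_zpowers _
  · intro h5
    rw [h5, orderOf_one] at hd11
    omega

/-- **the kill**: `soc(A) = A_m`, `11 ≤ m ≤ 13`, the Sylow 11-subgroups of `Q` are cyclic of order 121. -/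
theorem kill_121 (h : EPT A Γ) {m : ℕ} (hS : HasSoc A (alternatingGroup (Fin m))) (hm1 : 11 ≤ m) (hm : m ≤ 13) {c : Q}
    (hc : orderOf c = 121) (h11 : ¬ 11 ^ 3 ∣ Nat.card Q) : False := by
  have hf11 : Fact (Nat.Prime 11) := ⟨by norm_num⟩
  obtain ⟨N, hNA, hNn, hNC, ⟨e⟩⟩ := hS
  have hSoc : Soc A N := ⟨hNA, hNn, hNC⟩
  obtain ⟨ρ, hρ⟩ := exists_rho hSoc h (by omega) e
  -- the permutation representation of `A`
  let φ : A →* Perm (Fin m) := ρ.comp (conjA h)
  have hφe : ∀ x : N, φ ⟨x, hNA x.2⟩ = e x := fun x => hρ.con _ x rfl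
  have hφ : Function.Injective φ := by
    rw [injective_iff_map_eq_one]
    intro a ha
    have h1 : conjA h a = 1 := hρ.inj (ha.trans (map_one ρ).symm)
    apply Subtype.ext
    apply hNC a a.2
    intro n _
    have h2 : MulAut.conj (a : Q) = 1 := congrArg Subtype.val h1
    have h3 := DFunLike.congr_fun h2 n
    rw [MulAut.conj_apply] at h3
    exact mul_inv_eq_iff_eq_mul.1 h3
  have hcA : Nat.card A ∣ (13 : ℕ).factorial := by
    refine (Subgroup.card_dvd_of_injective φ hφ).trans ?_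
    rw [Nat.card_perm, Nat.card_eq_fintype_card, Fintype.card_fin]
    exact Nat.factorial_dvd_factorial hm
  -- `P`
  have hcN : Nat.card N = Nat.card (alternatingGroup (Fin m)) := Nat.card_congr e.toEquiv
  have h11N : 11 ∣ Nat.card N := by
    have : Nontrivial (Fin m) := Fin.nontrivial_iff_two_le.2 (by omega)
    have h1 := two_mul_nat_card_alternatingGroup (α := Fin m)
    rw [Nat.card_perm, Nat.card_eq_fintype_card (α := Fin m), Fintype.card_fin, ← hcN] at h1
    have h2 : 11 ∣ m.factorial := (Nat.Prime.dvd_factorial (by norm_num)).2 hm1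
    rw [← h1] at h2
    exact (Nat.Coprime.dvd_of_dvd_mul_left (by norm_num) h2)
  obtain ⟨x, hx⟩ := exists_prime_orderOf_dvd_card' 11 h11N
  set g : Perm (Fin m) := ((e x : alternatingGroup (Fin m)) : Perm (Fin m)) with hg
  have hgo : orderOf g = 11 := by
    rw [hg, Subgroup.orderOf_coe, MulEquiv.orderOf_eq, hx]
  set y : Q := ((x : N) : Q) with hy
  have hyo : orderOf y = 11 := by rw [hy, Subgroup.orderOf_coe, hx]
  obtain ⟨d, hd, hdy, hd1, hd2⟩ := exists_root hc h11 hyo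
  have hyA : y ∈ A := hNA x.2
  have hφy : φ ⟨y, hyA⟩ = g := hφe x
  have hφeq : ∀ a b : A, φ a = φ b → (a : Q) = b := fun a b hab => congrArg Subtype.val (hφ hab)
  refine cyc_kill h (s := 11) (by norm_num) hNA hNn ?_ (P := zpowers y) ?_ ?_ ?_ ?_ ?_ ?_ (c := d) ?_ ?_ hd1 hd2
  · -- elements of odd order
    intro a ha hao
    have h1 : Odd (orderOf (φ ⟨a, ha⟩)) := by
      rw [orderOf_injective φ hφ, Subgroup.orderOf_mk]
      exact hao
    have h2 : φ ⟨a, ha⟩ ∈ alternatingGroup (Fin m) := mem_alternatingGroup.2 (odd_sign h1)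
    have h3 := hφe (e.symm ⟨_, h2⟩)
    rw [e.apply_symm_apply] at h3
    have h4 := hφeq _ _ h3
    change ((e.symm ⟨_, h2⟩ : N) : Q) = a at h4
    rw [← h4]
    exact (e.symm ⟨_, h2⟩).2
  · rw [zpowers_le]
    exact x.2
  · rw [Nat.card_zpowers, hyo]
  · intro h1
    exact absurd (h1.trans hcA) (by decide)
  · -- the centraliser of `P`
    intro z hz hzP
    have h1 : Commute ((e ⟨z, hz⟩ : alternatingGroup (Fin m)) : Perm (Fin m)) g := by
      have h2 : (⟨z, hz⟩ : N) * x = x * ⟨z, hz⟩ := Subtype.ext (hzP y (mem_zpowers y))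
      have h3 := congrArg (fun w : N => ((e w : alternatingGroup (Fin m)) : Perm (Fin m))) h2
      simp only [map_mul, Subgroup.coe_mul] at h3
      exact h3
    have h2 := mem_zpowers_of_commute hm hgo (mem_alternatingGroup.1 (e ⟨z, hz⟩).2) h1
    obtain ⟨k, hk⟩ := Subgroup.mem_zpowers_iff.1 h2
    have h3 : φ ⟨z, hNA hz⟩ = φ (⟨y, hyA⟩ ^ k) := by
      rw [map_zpow, hφy, hk]
      exact hφe ⟨z, hz⟩
    have h4 := hφeq _ _ h3
    change z = _ at h4
    rw [h4]
    exact Subgroup.zpow_mem_zpowers y k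
  · -- invariant subgroups
    intro L hLN hL h11L
    have hLA : L ≤ A := hLN.trans hNA
    have h1 : (L.subgroupOf A).map φ = ⊥ := by
      apply inv_eq_bot hm hgo
      · rintro _ ⟨w, hw, rfl⟩
        have h2 := hφe ⟨w, hLN hw⟩
        change φ w = _ at h2
        rw [h2]
        exact mem_alternatingGroup.1 (e ⟨w, hLN hw⟩).2
      · rintro _ ⟨w, hw, rfl⟩
        refine ⟨⟨y, hyA⟩ * w * ⟨y, hyA⟩⁻¹, ?_, ?_⟩
        · exact hL y (mem_zpowers y) w hw
        · rw [map_mul, map_mul, map_inv, hφy]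
      · rw [Subgroup.card_map_of_injective hφ, Nat.card_congr (Subgroup.subgroupOfEquivOfLe hLA).toEquiv]
        exact h11L
    rw [Subgroup.map_eq_bot_iff_of_injective _ hφ, Subgroup.subgroupOf_eq_bot] at h1
    exact h1.eq_bot_of_le hLA
  · -- the normaliser
    obtain ⟨u, huo, ⟨k, huk⟩, hun⟩ := exists_normaliser hm hgo
    have hus : u ∈ alternatingGroup (Fin m) := mem_alternatingGroup.2 (odd_sign huo)
    set v : N := e.symm ⟨u, hus⟩ with hv
    have hev : e v = ⟨u, hus⟩ := e.apply_symm_apply _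
    have hφv : φ ⟨v, hNA v.2⟩ = u := by rw [hφe v, hev]
    have hvk : (v : Q) * y * (v : Q)⁻¹ = y ^ k := by
      have h1 : φ (⟨v, hNA v.2⟩ * ⟨y, hyA⟩ * ⟨v, hNA v.2⟩⁻¹) = φ (⟨y, hyA⟩ ^ k) := by
        rw [map_mul, map_mul, map_inv, map_pow, hφv, hφy, huk]
      exact hφeq _ _ h1
    refine ⟨v, v.2, ?_, ?_, y, mem_zpowers y, ?_⟩
    · have h1 : orderOf (v : Q) = orderOf u := by
        rw [Subgroup.orderOf_coe, ← MulEquiv.orderOf_eq e, hev, Subgroup.orderOf_mk]
      rw [h1]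
      exact huo
    · intro z hz
      obtain ⟨j, rfl⟩ := Subgroup.mem_zpowers_iff.1 hz
      rw [← conj_zpow, hvk, ← zpow_natCast, ← zpow_mul]
      exact Subgroup.zpow_mem_zpowers y _
    · intro h1
      apply hun
      have h2 : φ (⟨v, hNA v.2⟩ * ⟨y, hyA⟩) = φ (⟨y, hyA⟩ * ⟨v, hNA v.2⟩) := congrArg φ (Subtype.ext h1)
      rw [map_mul, map_mul, hφv, hφy] at h2
      rw [h2, mul_inv_cancel_right]
  · intro hdA
    have h1 : orderOf (⟨d, hdA⟩ : A) ∣ Nat.card A := orderOf_dvd_natCard _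
    rw [Subgroup.orderOf_mk, hd] at h1
    exact absurd (h1.trans hcA) (by decide)
  · intro z hz
    obtain ⟨j, rfl⟩ := Subgroup.mem_zpowers_iff.1 hz
    exact ((show Commute d y from hdy).zpow_right j).eq

end Cfsg.Agent.H168.EP
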