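import Cfsg.Agent.H168.EP.MaxAlt
import Cfsg.Agent.H59.EP.UB
import Cfsg.Agent.H173.EP.LineBound

/-!
# S3499: bounds for the index, `soc(A) = A_n`, `11 ≤ n ≤ 14` (helper168)
-/

set_option autoImplicit false

namespace Cfsg.Agent.H168.EP

open Subgroup

section

open Cfsg.Agent.H59.EP

variable {B : Type*} [Group B]

/-- in a finite group, `g K g⁻¹ ≤ K` suffices for `g ∈ N(K)` -/
theorem mem_norm_of_le [Finite B] {K : Subgroup B} {g : B} (h : ∀ k ∈ K, g * k * g⁻¹ ∈ K) :
    g ∈ Subgroup.normalizer (K : Set B) := by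
  rw [Subgroup.mem_normalizer_iff]
  intro x
  refine ⟨h x, fun hx => ?_⟩
  have hinj : Function.Injective (fun k : K => (⟨g * k * g⁻¹, h k k.2⟩ : K)) := by
    intro a b hab
    have h1 := congrArg Subtype.val hab
    exact Subtype.ext (by simpa using h1)
  obtain ⟨z, hz⟩ := Finite.injective_iff_surjective.1 hinj ⟨g * x * g⁻¹, hx⟩
  have h1 : g * (z : B) * g⁻¹ = g * x * g⁻¹ := congrArg Subtype.val hz
  have h2 : (z : B) = x := by simpa using h1
  rw [← h2]
  exact z.2

/-- **Counting theorem**: `𝓜` a set of subgroups `M` of `B` of index at most `c`, `p ^ 2 ∤ |M|` for `p ≥ 5`, not abelian, with `N_B(K) ≤ M` for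
all characteristic subgroups `K ≠ 1` of `M`. -/
theorem ncard_le_loc [Finite B] {𝓜 : Set (Subgroup B)} {c : ℕ}
    (h5 : ∀ M ∈ 𝓜, ∀ p, p.Prime → 5 ≤ p → ¬ p ^ 2 ∣ Nat.card M)
    (hgen : ∀ X : Subgroup B, IsSimpleGroup X → ∃ a b : X, closure ({a, b} : Set X) = ⊤)
    (hc : ∀ M ∈ 𝓜, M.index ≤ c) (hnt : ∀ M ∈ 𝓜, M ≠ ⊥)
    (hch : ∀ M ∈ 𝓜, ∀ K : Subgroup M, K.Characteristic → K ≠ ⊥ → ∀ b : B,
      (∀ k ∈ K.map M.subtype, b * k * b⁻¹ ∈ K.map M.subtype) → b ∈ M) :
    𝓜.ncard ≤ (∑ s ∈ (Nat.card B).primeFactors, gal s ((Nat.card B).factorization s)) * c + Nat.card B ^ 2 / 60 := by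
  classical
  -- the minimal characteristic subgroup
  have key : ∀ M ∈ 𝓜, ∃ X : Subgroup B, normalizer (X : Set B) = M ∧
      ((∃ s ∈ (Nat.card B).primeFactors, ElAb s X ∧ X ≠ ⊥) ∨
        ((IsSimpleGroup X ∧ ¬ Group.IsSolvable X) ∧ ∃ a b : X, closure ({a, b} : Set X) = ⊤)) := by
    intro M hM
    have hMn : Nontrivial M := (Subgroup.nontrivial_iff_ne_bot M).2 (hnt M hM)
    obtain ⟨Y, hY, hYne, hYmin⟩ := exists_min_char (B := M)
    have hYn : Nontrivial Y := (Subgroup.nontrivial_iff_ne_bot Y).2 hYne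
    have hYc : ∀ Z : Subgroup Y, Z.Characteristic → Z = ⊥ ∨ Z = ⊤ := by
      intro Z hZ
      by_cases hZb : Z = ⊥
      · exact Or.inl hZb
      right
      have h1 := hYmin (Z.map Y.subtype) char_trans (by
        rintro _ ⟨z, _, rfl⟩
        exact z.2) (by
        intro e
        rw [Subgroup.map_eq_bot_iff_of_injective _ Y.subtype_injective] at e
        exact hZb e)
      rw [Subgroup.eq_top_iff']
      intro y
      have h2 : (y : M) ∈ Z.map Y.subtype := by rw [h1]; exact y.2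
      obtain ⟨z, hz, e⟩ := h2
      have : z = y := Subtype.ext e
      rw [← this]
      exact hz
    set X : Subgroup B := Y.map M.subtype with hX
    have hcard : Nat.card X = Nat.card Y :=
      (Nat.card_congr (Y.equivMapOfInjective _ M.subtype_injective).toEquiv).symm
    have e : Y ≃* X := Y.equivMapOfInjective _ M.subtype_injective
    have hXB : Nat.card Y ∣ Nat.card B := by
      rw [← hcard]
      exact Subgroup.card_subgroup_dvd_card X
    have hXne : X ≠ ⊥ := by
      intro e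
      rw [hX, Subgroup.map_eq_bot_iff_of_injective _ M.subtype_injective] at e
      exact hYne e
    refine ⟨X, ?_, ?_⟩
    · apply le_antisymm
      · intro b hb
        exact hch M hM Y hY hYne b fun k hk => (mem_normalizer_iff.1 hb k).1 hk
      · intro m hm
        have hn : Y.Normal := inferInstance
        rw [mem_normalizer_iff]
        have key : ∀ m ∈ M, ∀ k ∈ X, m * k * m⁻¹ ∈ X := by
          rintro m hm _ ⟨k, hk, rfl⟩
          exact ⟨_, hn.conj_mem k hk ⟨m, hm⟩, rfl⟩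
        intro k
        refine ⟨key m hm k, fun h => ?_⟩
        have := key m⁻¹ (M.inv_mem hm) _ h
        have e : m⁻¹ * (m * k * m⁻¹) * m⁻¹⁻¹ = k := by group
        rwa [e] at this
    · rcases char_simple hYc (fun p hp hp5 hd => h5 M hM p hp hp5 (hd.trans (Subgroup.card_subgroup_dvd_card Y))) with ⟨s, hs, hsd, hel⟩ | ⟨h1, h2⟩
      · left
        refine ⟨s, Nat.mem_primeFactors.2 ⟨hs, hsd.trans hXB, Nat.card_pos.ne'⟩, ⟨?_, ?_⟩, hXne⟩
        · rintro _ ⟨a, ha, rfl⟩ _ ⟨b, hb, rfl⟩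
          have := hel.comm ⟨a, ha⟩ (mem_top _) ⟨b, hb⟩ (mem_top _)
          have h1 : a * b = b * a := Subtype.ext_iff.1 this
          rw [← map_mul, ← map_mul, h1]
        · rintro _ ⟨a, ha, rfl⟩
          have := hel.exp ⟨a, ha⟩ (mem_top _)
          have h1 : a ^ s = 1 := Subtype.ext_iff.1 this
          rw [← map_pow, h1, map_one]
      · right
        have hXs : IsSimpleGroup X := e.symm.isSimpleGroup
        refine ⟨⟨hXs, fun h => h2 ?_⟩, hgen X hXs⟩
        exact Group.isSolvable_of_isSolvable_injective (f := e.toMonoidHom) e.injective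
  choose! f hf1 hf2 using key
  have hinj : Set.InjOn f 𝓜 := by
    intro M hM N hN e
    rw [← hf1 M hM, ← hf1 N hN, e]
  rw [← hinj.ncard_image]
  have hsub : f '' 𝓜 ⊆ (⋃ s ∈ (Nat.card B).primeFactors,
      {X : Subgroup B | ElAb s X ∧ X ≠ ⊥ ∧ (normalizer (X : Set B)).index ≤ c}) ∪
      {X : Subgroup B | (IsSimpleGroup X ∧ ¬ Group.IsSolvable X) ∧ ∃ a b : X, closure ({a, b} : Set X) = ⊤} := by
    rintro _ ⟨M, hM, rfl⟩
    rcases hf2 M hM with ⟨s, hs, h1, h2⟩ | h
    · left
      simp only [Set.mem_iUnion]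
      exact ⟨s, hs, h1, h2, by rw [hf1 M hM]; exact hc M hM⟩
    · right
      exact h
  refine (Set.ncard_le_ncard hsub (Set.toFinite _)).trans ((Set.ncard_union_le _ _).trans (Nat.add_le_add ?_ ?_))
  · have hun : ∀ I : Finset ℕ, (⋃ s ∈ I, {X : Subgroup B | ElAb s X ∧ X ≠ ⊥ ∧
        (normalizer (X : Set B)).index ≤ c}).ncard ≤
        ∑ s ∈ I, {X : Subgroup B | ElAb s X ∧ X ≠ ⊥ ∧ (normalizer (X : Set B)).index ≤ c}.ncard := by
      intro I
      induction I using Finset.induction_on with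
      | empty => simp
      | insert j I hj ih =>
        rw [Finset.sum_insert hj, Finset.set_biUnion_insert]
        exact (Set.ncard_union_le _ _).trans (Nat.add_le_add_left ih _)
    refine (hun _).trans ?_
    rw [Finset.sum_mul]
    exact Finset.sum_le_sum fun s hs => ncard_elab_class_le (Nat.prime_of_mem_primeFactors hs)
  · exact ncard_simple_le (fun X hX => hX.1) (fun X hX => hX.2)

end

section

open Equiv Equiv.Perm MulAction Cfsg.Agent.H839.EP

variable {n : ℕ}

/-- a subgroup `≠ 1` normalised by `A_n` contains `A_n` -/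
theorem alt_le_of_norm (hn : 5 ≤ n) {K : Subgroup (Perm (Fin n))} (hK : K ≠ ⊥)
    (h : ∀ a ∈ alternatingGroup (Fin n), ∀ k ∈ K, a * k * a⁻¹ ∈ K) : alternatingGroup (Fin n) ≤ K := by
  obtain ⟨m, rfl⟩ : ∃ m, n = m + 2 := ⟨n - 2, by omega⟩
  have hs := alternatingGroup.isSimpleGroup (α := Fin (m + 2)) (by simp; omega)
  have hN : (alternatingGroup (Fin (m + 2))).Normal := inferInstance
  have hnor : (K.subgroupOf (alternatingGroup (Fin (m + 2)))).Normal := ⟨fun k hk a => h a a.2 k hk⟩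
  rcases hnor.eq_bot_or_eq_top with h1 | h1
  · exfalso
    apply hK
    rw [Subgroup.eq_bot_iff_forall]
    intro k hk
    apply Cfsg.Agent.StandardComponent.AltAut.eq_one_of_centralizes (m := m) (by omega)
    intro x
    have h2 : k * x * k⁻¹ * (x : Perm (Fin (m + 2)))⁻¹ ∈ K := by
      have e : k * x * k⁻¹ * (x : Perm (Fin (m + 2)))⁻¹ = k * (x * k⁻¹ * (x : Perm (Fin (m + 2)))⁻¹) := by group
      rw [e]
      exact K.mul_mem hk (h _ x.2 _ (K.inv_mem hk))
    have h3 : k * x * k⁻¹ * (x : Perm (Fin (m + 2)))⁻¹ ∈ alternatingGroup (Fin (m + 2)) :=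
      mul_mem (hN.conj_mem _ x.2 k) (inv_mem x.2)
    have h4 : (⟨_, h3⟩ : alternatingGroup (Fin (m + 2))) ∈ K.subgroupOf (alternatingGroup (Fin (m + 2))) := h2
    rw [h1, Subgroup.mem_bot] at h4
    exact mul_inv_eq_one.1 (congrArg Subtype.val h4)
  · rwa [Subgroup.subgroupOf_eq_top] at h1

theorem sq_ndvd_fact {p : ℕ} (hp : p.Prime) (h8 : 8 ≤ p) : ¬ p ^ 2 ∣ (14 : ℕ).factorial := by
  intro h2
  have h3 : p ≤ 14 := (Nat.Prime.dvd_factorial hp).1 ((dvd_pow_self p (by norm_num)).trans h2)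
  have h4 : p = 11 ∨ p = 13 := by
    have h5 : p = 8 ∨ p = 9 ∨ p = 10 ∨ p = 11 ∨ p = 12 ∨ p = 13 ∨ p = 14 := by omega
    rcases h5 with rfl | rfl | rfl | rfl | rfl | rfl | rfl
    · norm_num at hp
    · norm_num at hp
    · norm_num at hp
    · exact Or.inl rfl
    · norm_num at hp
    · exact Or.inr rfl
    · norm_num at hp
  rcases h4 with rfl | rfl
  · exact absurd h2 (by decide)
  · exact absurd h2 (by decide)

/-- the primitive maximal subgroups -/
theorem ncard_prim_le (hg : Cfsg.Agent.H59.EP.TwoGen.{0}) (hn : 11 ≤ n) (hn' : n ≤ 14) {G : Subgroup (Perm (Fin n))}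
    (hG : alternatingGroup (Fin n) ≤ G) :
    {L : Subgroup (Perm (Fin n)) | MaxNot G L ∧ IsPreprimitive L (Fin n)}.ncard ≤
      Cfsg.Agent.H59.EP.galSum (Nat.card G) * (Nat.card G / n) + Nat.card G ^ 2 / 60 := by
  have hmap : ∀ L : Subgroup (Perm (Fin n)), L ≤ G → (L.subgroupOf G).map G.subtype = L := by
    intro L hL
    rw [Subgroup.subgroupOf_map_subtype, inf_eq_left.2 hL]
  have hcardn : ∀ L : Subgroup (Perm (Fin n)), IsPreprimitive L (Fin n) → n ≤ Nat.card L := by
    intro L hL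
    have h1 := hL.toIsPretransitive
    have h2 : Function.Surjective (fun g : L => g • (⟨0, by omega⟩ : Fin n)) := fun y => h1.exists_smul_eq _ y
    have h3 := Nat.card_le_card_of_surjective _ h2
    simpa using h3
  have h1 : {L : Subgroup (Perm (Fin n)) | MaxNot G L ∧ IsPreprimitive L (Fin n)}.ncard ≤
      ((fun L : Subgroup (Perm (Fin n)) => L.subgroupOf G) ''
        {L : Subgroup (Perm (Fin n)) | MaxNot G L ∧ IsPreprimitive L (Fin n)}).ncard := by
    rw [Set.InjOn.ncard_image]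
    intro L hL M hM e
    rw [← hmap L hL.1.le, ← hmap M hM.1.le]
    exact congrArg (Subgroup.map G.subtype) e
  refine h1.trans (ncard_le_loc ?_ (fun X hX => hg X) ?_ ?_ ?_)
  · rintro _ ⟨L, ⟨hL, hp⟩, rfl⟩ p hpp hp5 hd
    rw [Nat.card_congr (Subgroup.subgroupOfEquivOfLe hL.le).toEquiv] at hd
    by_cases hp8 : p < 8
    · exact not_sq_dvd hpp (by omega) (by omega) (by omega) hp hL.nalt hd
    · refine sq_ndvd_fact hpp (by omega) ?_
      refine hd.trans ((Subgroup.card_subgroup_dvd_card L).trans ?_)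
      rw [Nat.card_perm, Nat.card_eq_fintype_card, Fintype.card_fin]
      exact Nat.factorial_dvd_factorial hn'
  · rintro _ ⟨L, ⟨hL, hp⟩, rfl⟩
    rw [Nat.le_div_iff_mul_le (by omega)]
    have h2 := (L.subgroupOf G).card_mul_index
    have h3 : Nat.card (L.subgroupOf G) = Nat.card L := Nat.card_congr (Subgroup.subgroupOfEquivOfLe hL.le).toEquiv
    rw [h3] at h2
    rw [← h2, mul_comm]
    exact Nat.mul_le_mul_right _ (hcardn L hp)
  · rintro _ ⟨L, ⟨hL, hp⟩, rfl⟩ h2
    have h3 : L = ⊥ := by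
      change L.subgroupOf G = ⊥ at h2
      rw [← hmap L hL.le, h2, Subgroup.map_bot]
    have h4 := hcardn L hp
    rw [h3, Subgroup.card_bot] at h4
    omega
  · rintro _ ⟨L, ⟨hL, hp⟩, rfl⟩ K hK hne b hb
    have hKn : K.Normal := inferInstance
    -- the image of `K`
    set K' : Subgroup (Perm (Fin n)) := (K.map (L.subgroupOf G).subtype).map G.subtype with hK'
    have hK'L : K' ≤ L := by
      rintro _ ⟨_, ⟨k, _, rfl⟩, rfl⟩
      exact k.2
    have hK'ne : K' ≠ ⊥ := by
      rw [hK', Ne, Subgroup.map_eq_bot_iff_of_injective _ G.subtype_injective,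
        Subgroup.map_eq_bot_iff_of_injective _ (L.subgroupOf G).subtype_injective]
      exact hne
    have hLK : L ≤ Subgroup.normalizer (K' : Set (Perm (Fin n))) ⊓ G := by
      refine le_inf ?_ hL.le
      have key : ∀ l ∈ L, ∀ k ∈ K', l * k * l⁻¹ ∈ K' := by
        rintro l hl _ ⟨_, ⟨k, hk, rfl⟩, rfl⟩
        exact ⟨_, ⟨_, hKn.conj_mem k hk ⟨⟨l, hL.le hl⟩, hl⟩, rfl⟩, rfl⟩
      intro l hl
      exact mem_norm_of_le (key l hl)
    rcases hL.max _ hLK inf_le_right with h2 | h2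
    · have h3 : (b : Perm (Fin n)) ∈ Subgroup.normalizer (K' : Set (Perm (Fin n))) ⊓ G := by
        refine ⟨?_, b.2⟩
        have key : ∀ k ∈ K', (b : Perm (Fin n)) * k * (b : Perm (Fin n))⁻¹ ∈ K' := by
          rintro _ ⟨k, hk, rfl⟩
          exact ⟨_, hb k hk, rfl⟩
        exact mem_norm_of_le key
      rw [h2] at h3
      exact h3
    · exfalso
      apply hL.nalt
      refine le_trans ?_ hK'L
      apply alt_le_of_norm (by omega) hK'ne
      intro a ha k hk
      have h3 : a ∈ Subgroup.normalizer (K' : Set (Perm (Fin n))) ⊓ G := by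
        rw [h2]
        exact hG ha
      exact (Subgroup.mem_normalizer_iff.1 h3.1 k).1 hk

/-- all maximal subgroups -/
theorem ncard_maxNot_le (hg : Cfsg.Agent.H59.EP.TwoGen.{0}) (hn : 11 ≤ n) (hn' : n ≤ 14) {G : Subgroup (Perm (Fin n))}
    (hG : alternatingGroup (Fin n) ≤ G) :
    {L : Subgroup (Perm (Fin n)) | MaxNot G L}.ncard ≤
      n ^ n + (Cfsg.Agent.H59.EP.galSum (Nat.card G) * (Nat.card G / n) + Nat.card G ^ 2 / 60) := by
  have h1 : {L : Subgroup (Perm (Fin n)) | MaxNot G L} ⊆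
      {L : Subgroup (Perm (Fin n)) | ∃ r : Setoid (Fin n), L = G ⊓ stabS r} ∪
        {L : Subgroup (Perm (Fin n)) | MaxNot G L ∧ IsPreprimitive L (Fin n)} := by
    intro L hL
    by_cases hp : IsPreprimitive L (Fin n)
    · exact Or.inr ⟨hL, hp⟩
    · exact Or.inl (MaxNot.eq_stabS (by omega) hG hL hp)
  refine (Set.ncard_le_ncard h1 (Set.toFinite _)).trans ((Set.ncard_union_le _ _).trans ?_)
  exact Nat.add_le_add (ncard_imprim_le G) (ncard_prim_le hg hn hn' hG)

end

section

open Equiv Equiv.Perm Cfsg.Agent.H284 Cfsg.Agent.H419.EP Cfsg.Agent.H839.EP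

variable {Q : Type*} [Group Q] [Finite Q] {A : Subgroup Q} {Γ : Subgroup (MulAut Q)} {n : ℕ}

/-- the order of a group between `A_n` and `S_n` -/
theorem card_between (hn : 2 ≤ n) {G : Subgroup (Perm (Fin n))} (hG : alternatingGroup (Fin n) ≤ G) :
    Nat.card G = n.factorial ∨ 2 * Nat.card G = n.factorial := by
  have hnt : Nontrivial (Fin n) := Fin.nontrivial_iff_two_le.2 hn
  have hc : Nat.card (Perm (Fin n)) = n.factorial := by
    rw [Nat.card_perm, Nat.card_eq_fintype_card, Fintype.card_fin]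
  have h1 := two_mul_nat_card_alternatingGroup (α := Fin n)
  have h2 := Subgroup.card_dvd_of_le hG
  have h3 := Subgroup.card_subgroup_dvd_card G
  obtain ⟨a, ha⟩ := h2
  obtain ⟨b, hb⟩ := h3
  have h4 : 0 < Nat.card (alternatingGroup (Fin n)) := Nat.card_pos
  have h5 : a * b = 2 := by
    apply Nat.eq_of_mul_eq_mul_left h4
    rw [← mul_assoc, ← ha, ← hb, ← h1, mul_comm]
  have h6 : b ∣ 2 := Dvd.intro_left _ h5
  rw [hc] at hb
  rcases (Nat.dvd_prime Nat.prime_two).1 h6 with h7 | h7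
  · left
    rw [hb, h7, mul_one]
  · right
    rw [hb, h7, mul_comm]

/-- the general form of the bound -/
theorem index_alt_le (hg : Cfsg.Agent.H59.EP.TwoGen.{0}) (hs : IsSimpleGroup Q) (h : EPT A Γ)
    (hS : HasSoc A (alternatingGroup (Fin n))) (hn : 11 ≤ n) (hn' : n ≤ 14) :
    ∃ g, (g = n.factorial ∨ 2 * g = n.factorial) ∧
      A.index ≤ 1 + (n ^ n + (Cfsg.Agent.H59.EP.galSum g * (g / n) + g ^ 2 / 60)) * (2 * (n.factorial / 6)) := by
  have hS' := hS
  obtain ⟨N, hNA, hNn, hNC, ⟨e⟩⟩ := hS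
  have hSoc : Soc A N := ⟨hNA, hNn, hNC⟩
  obtain ⟨ρ, hρ⟩ := exists_rho hSoc h (by omega) e
  have hG := hρ.alt_le hSoc h
  refine ⟨Nat.card ρ.range, card_between (by omega) hG, ?_⟩
  have hsimp : IsSimpleGroup (alternatingGroup (Fin n)) := alternatingGroup.isSimpleGroup (by simp; omega)
  have hab : ¬ ∀ a b : alternatingGroup (Fin n), a * b = b * a := by
    intro hc
    have hnc : ¬ IsMulCommutative (alternatingGroup (Fin n)) := by
      rw [alternatingGroup.isMulCommutative_iff_card_le_three]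
      simp
      omega
    exact hnc ⟨⟨hc⟩⟩
  have h1 := Cfsg.Agent.H173.EP.ub1 hs h (μ := 6) (by norm_num) (fun x hx =>
    Cfsg.Agent.H59.EP.EPT.six_le h (fun K hK hKn hKc => hS'.no_abelian hsimp hab hK hKn hKc) hx)
  have h2 := (hρ.ncard_le hSoc h (by omega)).trans (ncard_maxNot_le hg hn hn' hG)
  -- the order of `A`
  have h3 : Nat.card A ≤ n.factorial := by
    have hφ : Function.Injective (ρ.comp (conjA h)) := by
      rw [injective_iff_map_eq_one]
      intro a ha
      have h1 : conjA h a = 1 := hρ.inj (ha.trans (map_one ρ).symm)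
      apply Subtype.ext
      apply hNC a a.2
      intro n _
      have h2 : MulAut.conj (a : Q) = 1 := congrArg Subtype.val h1
      have h3 := DFunLike.congr_fun h2 n
      rw [MulAut.conj_apply] at h3
      exact mul_inv_eq_iff_eq_mul.1 h3
    have h4 := Nat.card_le_card_of_injective _ hφ
    rwa [Nat.card_perm, Nat.card_eq_fintype_card (α := Fin n), Fintype.card_fin] at h4
  refine h1.trans (Nat.add_le_add_left ?_ 1)
  exact Nat.mul_le_mul h2 (Nat.mul_le_mul_left 2 (Nat.div_le_div_right h3))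

end

end Cfsg.Agent.H168.EP
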