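import Cfsg.Agent.H284.EP.TForm

/-!
# S3499: the cyclic Sylow criterion (helper168)

`P ≤ N ⊴ A` of prime order `s`, `C_N(P) = P`; `c ∉ A` commutes with `P` and `c ^ s` generates `P`. Then `A ∩ A^c` cannot be
a two-point stabiliser of an extremely primitive group, if `P` normalises no non-trivial `s'`-subgroup of `N` and some
element of odd order of `N` normalises but does not centralise `P`.
-/

set_option autoImplicit false

namespace Cfsg.Agent.H168.EP

open Subgroup Cfsg.Agent.H284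

section

variable {Q : Type*} [Group Q] [Finite Q] {A : Subgroup Q} {Γ : Subgroup (MulAut Q)}

theorem comm_of_cyclic {G : Type*} [Group G] (h : IsCyclic G) (x y : G) : x * y = y * x := by
  obtain ⟨g, hg⟩ := h.exists_generator
  obtain ⟨i, rfl⟩ := Subgroup.mem_zpowers_iff.1 (hg x)
  obtain ⟨j, rfl⟩ := Subgroup.mem_zpowers_iff.1 (hg y)
  rw [← zpow_add, ← zpow_add, add_comm]

/-- Burnside's transfer theorem -/
theorem eq_of_burnside {s : ℕ} (hs : s.Prime) {M P : Subgroup Q} (hPM : P ≤ M) (hP : Nat.card P = s)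
    (hs2 : ¬ s ^ 2 ∣ Nat.card M)
    (hn : ∀ u ∈ M, (∀ y ∈ P, u * y * u⁻¹ ∈ P) → ∀ y ∈ P, u * y = y * u)
    (hF : ∀ L : Subgroup Q, L ≤ M → (∀ y ∈ P, ∀ x ∈ L, y * x * y⁻¹ ∈ L) → ¬ s ∣ Nat.card L → L = ⊥) : M = P := by
  have hsf : Fact s.Prime := ⟨hs⟩
  have hcard : Nat.card (P.subgroupOf M) = s := by
    rw [Nat.card_congr (Subgroup.subgroupOfEquivOfLe hPM).toEquiv, hP]
  have hsM : s ∣ Nat.card M := by
    rw [← hP]
    exact Subgroup.card_dvd_of_le hPM
  have hfac : (Nat.card M).factorization s = 1 := by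
    have h0 : Nat.card M ≠ 0 := Nat.card_pos.ne'
    have h1 : 1 ≤ (Nat.card M).factorization s := (hs.dvd_iff_one_le_factorization h0).1 hsM
    have h2 : ¬ 2 ≤ (Nat.card M).factorization s := by
      rw [← hs.pow_dvd_iff_le_factorization h0]
      exact hs2
    omega
  let P' : Sylow s M := Sylow.ofCard (P.subgroupOf M) (by rw [hcard, hfac, pow_one])
  have hP' : (P' : Subgroup M) = P.subgroupOf M := rfl
  have hnorm : Subgroup.normalizer ((P' : Subgroup M) : Set M) ≤ Subgroup.centralizer ((P' : Subgroup M) : Set M) := by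
    intro u hu
    rw [Subgroup.mem_centralizer_iff]
    intro y hy
    have h1 := hn u u.2 (by
      intro z hz
      have h2 := (Subgroup.mem_normalizer_iff.1 hu ⟨z, hPM hz⟩).1 (by rw [hP']; exact hz)
      rw [hP'] at h2
      exact h2) y (by rw [hP'] at hy; exact hy)
    exact Subtype.ext h1.symm
  obtain ⟨K, hKn, hcompl, hnd⟩ : ∃ K : Subgroup M, K.Normal ∧ IsComplement' K (P' : Subgroup M) ∧ ¬ s ∣ Nat.card K :=
    ⟨_, MonoidHom.normal_ker _, MonoidHom.ker_transferSylow_isComplement' P' hnorm,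
      MonoidHom.not_dvd_card_ker_transferSylow P' hnorm⟩
  have hKL : K.map M.subtype = ⊥ := by
    apply hF
    · rintro _ ⟨x, -, rfl⟩
      exact x.2
    · rintro y hy _ ⟨x, hx, rfl⟩
      exact ⟨⟨y, hPM hy⟩ * x * ⟨y, hPM hy⟩⁻¹, hKn.conj_mem x hx ⟨y, hPM hy⟩, rfl⟩
    · rw [Subgroup.card_map_of_injective M.subtype_injective]
      exact hnd
  have hKb : K = ⊥ := by
    rwa [Subgroup.map_eq_bot_iff_of_injective _ M.subtype_injective] at hKL
  rw [hKb, Subgroup.isComplement'_bot_left] at hcompl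
  refine le_antisymm ?_ hPM
  intro x hx
  have h1 : (⟨x, hx⟩ : M) ∈ (P' : Subgroup M) := by rw [hcompl]; exact Subgroup.mem_top _
  rw [hP'] at h1
  exact h1

/-- `u` normalises `P`, `c` centralises `P`, `[u, c] ∈ P` and `1 ≠ c ^ s ∈ P`: `u` centralises `P`. -/
theorem comm_of_cyc {s : ℕ} (hs : s.Prime) {P : Subgroup Q} (hP : Nat.card P = s) {c u v : Q}
    (hcP : ∀ y ∈ P, c * y = y * c) (hcs : c ^ s ∈ P) (hcs' : c ^ s ≠ 1) (hu : ∀ y ∈ P, u * y * u⁻¹ ∈ P)
    (hv : v ∈ P) (huv : c⁻¹ * u * c = u * v) : ∀ y ∈ P, u * y = y * u := by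
  have hsf : Fact s.Prime := ⟨hs⟩
  have hcyc : IsCyclic P := isCyclic_of_prime_card hP
  have hab : ∀ x ∈ P, ∀ y ∈ P, x * y = y * x := by
    intro x hx y hy
    exact congrArg Subtype.val (comm_of_cyclic hcyc ⟨x, hx⟩ ⟨y, hy⟩)
  -- the centraliser of `u` in `P`
  let D : Subgroup P :=
    { carrier := {y | u * (y : Q) = y * u}
      one_mem' := by simp
      mul_mem' := by
        intro x y hx hy
        change u * ((x : Q) * y) = x * y * u
        have hx' : u * (x : Q) = x * u := hx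
        have hy' : u * (y : Q) = y * u := hy
        rw [← mul_assoc, hx', mul_assoc, hy', mul_assoc]
      inv_mem' := by
        intro x hx
        change u * (x : Q)⁻¹ = (x : Q)⁻¹ * u
        have hx' : u * (x : Q) = x * u := hx
        rw [mul_inv_eq_iff_eq_mul, mul_assoc, hx', inv_mul_cancel_left] }
  by_contra hcon
  push Not at hcon
  obtain ⟨y0, hy0, hy0'⟩ := hcon
  have hDbot : D = ⊥ := by
    have h1 : Nat.card D ∣ Nat.card P := Subgroup.card_subgroup_dvd_card D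
    rw [hP] at h1
    rcases (Nat.dvd_prime hs).1 h1 with h2 | h2
    · exact Subgroup.card_eq_one.1 h2
    · exfalso
      apply hy0'
      have h3 : D = ⊤ := Subgroup.eq_top_of_card_eq D (by rw [h2, hP])
      have h4 : (⟨y0, hy0⟩ : P) ∈ D := by rw [h3]; exact Subgroup.mem_top _
      exact h4
  have hDtriv : ∀ y ∈ P, u * y = y * u → y = 1 := by
    intro y hy h1
    have h2 : (⟨y, hy⟩ : P) ∈ D := h1
    rw [hDbot, Subgroup.mem_bot] at h2
    exact congrArg Subtype.val h2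
  -- `u⁻¹ P u ≤ P`
  have hu' : ∀ y ∈ P, u⁻¹ * y * u ∈ P := by
    intro y hy
    have hinj : Function.Injective (fun y : P => (⟨u * y * u⁻¹, hu y y.2⟩ : P)) := by
      intro a b hab
      have h1 := congrArg Subtype.val hab
      exact Subtype.ext (by simpa using h1)
    obtain ⟨z, hz⟩ := (Finite.injective_iff_surjective.1 hinj) ⟨y, hy⟩
    have h1 : u * (z : Q) * u⁻¹ = y := congrArg Subtype.val hz
    rw [← h1]
    have e : u⁻¹ * (u * (z : Q) * u⁻¹) * u = z := by group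
    rw [e]
    exact z.2
  -- the map `y ↦ [u, y]`
  have hinj : Function.Injective
      (fun y : P => (⟨u⁻¹ * (y : Q)⁻¹ * u * y, P.mul_mem (hu' _ (P.inv_mem y.2)) y.2⟩ : P)) := by
    intro a b hab'
    have h1 : u⁻¹ * (a : Q)⁻¹ * u * a = u⁻¹ * (b : Q)⁻¹ * u * b := congrArg Subtype.val hab'
    have h2 : (b : Q) * (a : Q)⁻¹ = 1 := by
      apply hDtriv _ (P.mul_mem b.2 (P.inv_mem a.2))
      have h3 : (b : Q) * (a : Q)⁻¹ * u = u * (b * (a : Q)⁻¹) := by
        calc (b : Q) * (a : Q)⁻¹ * u = b * u * (u⁻¹ * (a : Q)⁻¹ * u * a) * (a : Q)⁻¹ := by group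
          _ = b * u * (u⁻¹ * (b : Q)⁻¹ * u * b) * (a : Q)⁻¹ := by rw [h1]
          _ = _ := by group
      exact h3.symm
    exact Subtype.ext (mul_inv_eq_one.1 h2).symm
  obtain ⟨y, hy⟩ := (Finite.injective_iff_surjective.1 hinj) ⟨v⁻¹, P.inv_mem hv⟩
  have hy' : u⁻¹ * (y : Q)⁻¹ * u * y = v⁻¹ := congrArg Subtype.val hy
  -- `c y` commutes with `u`
  have h1 : (c * y)⁻¹ * u * (c * y) = u := by
    calc (c * (y : Q))⁻¹ * u * (c * y) = (y : Q)⁻¹ * (c⁻¹ * u * c) * y := by group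
      _ = (y : Q)⁻¹ * u * (v * y) := by rw [huv]; group
      _ = (y : Q)⁻¹ * u * (y * v) := by rw [hab v hv y y.2]
      _ = u * (u⁻¹ * (y : Q)⁻¹ * u * y) * v := by group
      _ = u := by rw [hy']; group
  have h2 : Commute (c * (y : Q)) u := by
    change c * (y : Q) * u = u * (c * y)
    calc c * (y : Q) * u = c * y * ((c * y)⁻¹ * u * (c * y)) := by rw [h1]
      _ = _ := by group
  have h3 : (c * (y : Q)) ^ s = c ^ s := by
    have h4 : Commute c (y : Q) := hcP y y.2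
    have h5 : (y : Q) ^ s = 1 := by
      have h6 : y ^ s = 1 := by rw [← hP]; exact pow_card_eq_one'
      exact congrArg Subtype.val h6
    rw [h4.mul_pow, h5, mul_one]
  have h4 := h2.pow_left s
  rw [h3] at h4
  exact hcs' (hDtriv _ hcs h4.symm)

/-- **the cyclic Sylow criterion** -/
theorem cyc_kill (h : EPT A Γ) {s : ℕ} (hs : s.Prime) {N : Subgroup Q} (hNA : N ≤ A)
    (hNn : ∀ a ∈ A, ∀ n ∈ N, a * n * a⁻¹ ∈ N) (hodd : ∀ a ∈ A, Odd (orderOf a) → a ∈ N) {P : Subgroup Q}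
    (hPN : P ≤ N) (hP : Nat.card P = s) (hs2 : ¬ s ^ 2 ∣ Nat.card A)
    (hCP : ∀ x ∈ N, (∀ y ∈ P, x * y = y * x) → x ∈ P)
    (hF : ∀ L : Subgroup Q, L ≤ N → (∀ y ∈ P, ∀ x ∈ L, y * x * y⁻¹ ∈ L) → ¬ s ∣ Nat.card L → L = ⊥)
    (hU : ∃ u ∈ N, Odd (orderOf u) ∧ (∀ y ∈ P, u * y * u⁻¹ ∈ P) ∧ ∃ y ∈ P, u * y ≠ y * u) {c : Q} (hcA : c ∉ A)
    (hcP : ∀ y ∈ P, c * y = y * c) (hcs : c ^ s ∈ P) (hcs' : c ^ s ≠ 1) : False := by
  have hsf : Fact s.Prime := ⟨hs⟩
  have hcyc : IsCyclic P := isCyclic_of_prime_card hP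
  have hcPi : ∀ y ∈ P, c⁻¹ * y * c = y := by
    intro y hy
    rw [mul_assoc, ← hcP y hy, inv_mul_cancel_left]
  set M1 : Subgroup Q := N ⊓ cj c N with hM1
  have hPM1 : P ≤ M1 := by
    intro y hy
    refine mem_inf.2 ⟨hPN hy, mem_cj.2 ?_⟩
    rw [hcPi y hy]
    exact hPN hy
  have hM1A : M1 ≤ A := inf_le_left.trans hNA
  have hM1P : M1 = P := by
    refine eq_of_burnside hs hPM1 hP (fun h1 => hs2 (h1.trans (Subgroup.card_dvd_of_le hM1A))) ?_
      (fun L hL => hF L (hL.trans inf_le_left))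
    intro u hu hun
    have huN : u ∈ N := (mem_inf.1 hu).1
    have huc : c⁻¹ * u * c ∈ N := mem_cj.1 (mem_inf.1 hu).2
    have hv : u⁻¹ * (c⁻¹ * u * c) ∈ P := by
      apply hCP _ (N.mul_mem (N.inv_mem huN) huc)
      intro y hy
      have h1 : c * y * c⁻¹ = y := by rw [hcP y hy, mul_inv_cancel_right]
      have h2 : c⁻¹ * (u * y * u⁻¹) * c = u * y * u⁻¹ := hcPi _ (hun y hy)
      have h3 : u⁻¹ * (c⁻¹ * u * c) * y * (u⁻¹ * (c⁻¹ * u * c))⁻¹ = y := by
        calc u⁻¹ * (c⁻¹ * u * c) * y * (u⁻¹ * (c⁻¹ * u * c))⁻¹ =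
            u⁻¹ * (c⁻¹ * (u * (c * y * c⁻¹) * u⁻¹) * c) * u := by group
          _ = u⁻¹ * (u * y * u⁻¹) * u := by rw [h1, h2]
          _ = y := by group
      exact mul_inv_eq_iff_eq_mul.1 h3
    exact comm_of_cyc hs hP hcP hcs hcs' hun hv (by group)
  -- `P` is normal in `A ∩ A^c`
  have hPn : ∀ x ∈ A ⊓ cj c A, ∀ y ∈ P, x * y * x⁻¹ ∈ P := by
    intro x hx y hy
    have hxA := (mem_inf.1 hx).1
    have hxc := mem_cj.1 (mem_inf.1 hx).2
    rw [← hM1P]
    refine mem_inf.2 ⟨hNn x hxA y (hPN hy), mem_cj.2 ?_⟩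
    have e : c⁻¹ * (x * y * x⁻¹) * c = (c⁻¹ * x * c) * (c⁻¹ * y * c) * (c⁻¹ * x * c)⁻¹ := by group
    rw [e, hcPi y hy]
    exact hNn _ hxc y (hPN hy)
  have hPM0 : P ≤ A ⊓ cj c A := by
    intro y hy
    refine mem_inf.2 ⟨hNA (hPN hy), mem_cj.2 ?_⟩
    rw [hcPi y hy]
    exact hNA (hPN hy)
  -- the elements of order `s` of `A ∩ A^c` lie in `P`
  have hchar : ∀ x ∈ A ⊓ cj c A, x ^ s = 1 → x ∈ P := by
    intro x hx hxs
    set M0 := A ⊓ cj c A with hM0
    have hcard : Nat.card (P.subgroupOf M0) = s := by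
      rw [Nat.card_congr (Subgroup.subgroupOfEquivOfLe hPM0).toEquiv, hP]
    have hs2' : ¬ s ^ 2 ∣ Nat.card M0 := fun h1 => hs2 (h1.trans (Subgroup.card_dvd_of_le inf_le_left))
    have hsM : s ∣ Nat.card M0 := by
      rw [← hP]
      exact Subgroup.card_dvd_of_le hPM0
    have hfac : (Nat.card M0).factorization s = 1 := by
      have h0 : Nat.card M0 ≠ 0 := Nat.card_pos.ne'
      have h1 : 1 ≤ (Nat.card M0).factorization s := (hs.dvd_iff_one_le_factorization h0).1 hsM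
      have h2 : ¬ 2 ≤ (Nat.card M0).factorization s := by
        rw [← hs.pow_dvd_iff_le_factorization h0]
        exact hs2'
      omega
    let P' : Sylow s M0 := Sylow.ofCard (P.subgroupOf M0) (by rw [hcard, hfac, pow_one])
    have hP' : (P' : Subgroup M0) = P.subgroupOf M0 := rfl
    have hnorm : (P' : Subgroup M0).Normal := by
      refine ⟨fun y hy g => ?_⟩
      rw [hP'] at hy ⊢
      exact hPn g g.2 y hy
    have hpg : IsPGroup s (Subgroup.zpowers (⟨x, hx⟩ : M0)) := by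
      rw [IsPGroup]
      rintro ⟨_, k, rfl⟩
      refine ⟨1, ?_⟩
      apply Subtype.ext
      apply Subtype.ext
      change (((⟨x, hx⟩ : M0) ^ k : M0) : Q) ^ s ^ 1 = 1
      rw [pow_one]
      push_cast
      rw [← zpow_natCast, ← zpow_mul, mul_comm, zpow_mul, zpow_natCast, hxs, one_zpow]
    obtain ⟨R, hR⟩ := hpg.exists_le_sylow
    have hRP : R = P' := by
      have huniq := Sylow.unique_of_normal P' hnorm
      exact (huniq.eq_default R).trans (huniq.eq_default P').symm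
    have h1 : (⟨x, hx⟩ : M0) ∈ (P' : Subgroup M0) := by
      rw [← hRP]
      exact hR (Subgroup.mem_zpowers _)
    rw [hP'] at h1
    exact h1
  have hPne : P ≠ ⊥ := by
    intro h1
    rw [h1, Subgroup.card_bot] at hP
    exact hs.one_lt.ne hP
  obtain ⟨u, huN, huo, hun, y, hy, huy⟩ := hU
  have hPs : ∀ y ∈ P, y ^ s = 1 := by
    intro y hy
    have h6 : (⟨y, hy⟩ : P) ^ s = 1 := by rw [← hP]; exact pow_card_eq_one'
    exact congrArg Subtype.val h6
  have huc : u ∈ cj c A := by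
    refine h.norm_aut hcA (K := P) hPM0 ?_ hPne (hNA huN) hun
    intro σ hσ k hk
    apply hchar _ (hσ k (hPM0 hk))
    rw [← map_pow, hPs k hk, map_one]
  have huc' : c⁻¹ * u * c ∈ N := by
    apply hodd _ (mem_cj.1 huc)
    have e : orderOf (c⁻¹ * u * c) = orderOf u := by
      have h1 := orderOf_injective (MulAut.conj c⁻¹).toMonoidHom (MulAut.conj c⁻¹).injective u
      rw [← h1]
      congr 1
      simp
    rw [e]
    exact huo
  have huM1 : u ∈ M1 := mem_inf.2 ⟨huN, mem_cj.2 huc'⟩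
  rw [hM1P] at huM1
  apply huy
  exact congrArg Subtype.val (comm_of_cyclic hcyc ⟨u, huM1⟩ ⟨y, hy⟩)

end

end Cfsg.Agent.H168.EP
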