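import Cfsg.Agent.S0025
import Cfsg.Agent.H168.EP.Cyc

/-!
# S3499: elements of order 11 in `S_m`, `11 ≤ m ≤ 13` (helper168)
-/

set_option autoImplicit false

namespace Cfsg.Agent.H168.EP

open Equiv Equiv.Perm Subgroup

section

variable {m : ℕ} {g : Perm (Fin m)}

theorem isCycle_of_order (hm : m ≤ 13) (hg : orderOf g = 11) : g.IsCycle ∧ g.support.card = 11 := by
  have hp : (orderOf g).Prime := by rw [hg]; norm_num
  obtain ⟨n, hn⟩ := cycleType_prime_order hp
  rw [hg] at hn
  have h1 := sum_cycleType g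
  have h2 : g.support.card ≤ m := (Finset.card_le_univ _).trans (by simp)
  rw [hn, Multiset.sum_replicate, smul_eq_mul] at h1
  have h3 : n = 0 := by omega
  subst h3
  constructor
  · rw [← card_cycleType_eq_one, hn]
    rfl
  · rw [← h1]

theorem odd_sign {x : Perm (Fin m)} (h : Odd (orderOf x)) : sign x = 1 := by
  rcases Int.units_eq_one_or (sign x) with h1 | h1
  · exact h1
  · exfalso
    have h2 := congrArg sign (pow_orderOf_eq_one x)
    rw [map_pow, h1, h.neg_one_pow, map_one] at h2
    exact absurd h2 (by decide)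

/-- an even permutation moving at most two points is trivial -/
theorem eq_one_of_support {x : Perm (Fin m)} (hx : sign x = 1) (h : x.support.card ≤ 2) : x = 1 := by
  have h1 := card_support_ne_one x
  rcases Nat.lt_or_ge x.support.card 2 with h2 | h2
  · rw [← card_support_eq_zero]
    omega
  · exfalso
    have h3 : x.IsSwap := card_support_eq_two.1 (by omega)
    rw [h3.sign_eq] at hx
    exact absurd hx (by decide)

theorem card_compl (hm : m ≤ 13) (hg : orderOf g = 11) : g.supportᶜ.card ≤ 2 := by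
  rw [Finset.card_compl, (isCycle_of_order hm hg).2, Fintype.card_fin]
  omega

/-- the centraliser of `g` in `A_m` -/
theorem mem_zpowers_of_commute (hm : m ≤ 13) (hg : orderOf g = 11) {x : Perm (Fin m)} (hx : sign x = 1)
    (hc : Commute x g) : x ∈ zpowers g := by
  obtain ⟨hcyc, hcard⟩ := isCycle_of_order hm hg
  obtain ⟨h1, h2⟩ := hcyc.commute_iff.1 hc
  obtain ⟨k, hk⟩ := Subgroup.mem_zpowers_iff.1 h2
  have h3 : (g ^ k)⁻¹ * x = 1 := by
    apply eq_one_of_support
    · rw [map_mul, hx, map_inv, map_zpow, odd_sign (by rw [hg]; decide), one_zpow, inv_one, one_mul]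
    · refine le_trans (Finset.card_le_card ?_) (card_compl hm hg)
      intro y hy
      rw [Finset.mem_compl]
      intro hyg
      rw [mem_support] at hy
      apply hy
      have h4 : x y = (g ^ k) y := by
        rw [hk, ofSubtype_apply_of_mem _ hyg]
        rfl
      rw [Perm.mul_apply, h4]
      exact (g ^ k).symm_apply_apply y
  have h4 : x = g ^ k := by
    rw [inv_mul_eq_one] at h3
    exact h3.symm
  rw [h4]
  exact Subgroup.zpow_mem_zpowers _ _

/-- an element of odd order normalising `⟨g⟩`, not centralising it -/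
theorem exists_normaliser (hm : m ≤ 13) (hg : orderOf g = 11) :
    ∃ u : Perm (Fin m), Odd (orderOf u) ∧ (∃ k : ℕ, u * g * u⁻¹ = g ^ k) ∧ u * g * u⁻¹ ≠ g := by
  have hp : (orderOf g).Prime := by rw [hg]; norm_num
  have h3 : orderOf (g ^ 3) = 11 := by
    rw [orderOf_pow, hg]
    rfl
  have hconj : IsConj g (g ^ 3) := by
    rw [isConj_iff_cycleType_eq, (isCycle_of_order hm hg).1.cycleType, (isCycle_of_order hm h3).1.cycleType,
      (isCycle_of_order hm hg).2, (isCycle_of_order hm h3).2]
  obtain ⟨w, hw⟩ := isConj_iff.1 hconj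
  have hpow : ∀ j : ℕ, w ^ j * g * (w ^ j)⁻¹ = g ^ 3 ^ j := by
    intro j
    induction j with
    | zero => simp
    | succ j ih =>
      have e : w ^ (j + 1) * g * (w ^ (j + 1))⁻¹ = w * (w ^ j * g * (w ^ j)⁻¹) * w⁻¹ := by
        rw [pow_succ']
        group
      rw [e, ih, ← conj_pow, hw, ← pow_mul, pow_succ']
  obtain ⟨a, b, hb, hab⟩ : ∃ a b : ℕ, Odd b ∧ orderOf w = 2 ^ a * b := by
    obtain ⟨a, b, hb, hab⟩ := Nat.exists_eq_two_pow_mul_odd (orderOf_pos w).ne'
    exact ⟨a, b, hb, hab⟩
  refine ⟨w ^ 2 ^ a, ?_, ⟨3 ^ 2 ^ a, hpow _⟩, ?_⟩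
  · rw [orderOf_pow, hab, Nat.gcd_eq_right (Dvd.intro _ rfl), Nat.mul_div_cancel_left _ (by positivity)]
    exact hb
  · rw [hpow]
    intro h1
    have h4 : g ^ (3 ^ 2 ^ a - 1) = 1 := by
      have h5 : g ^ (3 ^ 2 ^ a) = g ^ (3 ^ 2 ^ a - 1) * g := by
        rw [← pow_succ, Nat.sub_add_cancel (Nat.one_le_pow _ _ (by norm_num))]
      rw [h1] at h5
      exact (mul_eq_right.1 h5.symm)
    have h5 : 11 ∣ 3 ^ 2 ^ a - 1 := by
      rw [← hg]
      exact orderOf_dvd_of_pow_eq_one h4
    have h6 : (3 : ZMod 11) ^ 2 ^ a = 1 := by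
      have h7 : ((3 ^ 2 ^ a - 1 : ℕ) : ZMod 11) = 0 := (ZMod.natCast_eq_zero_iff _ _).2 h5
      rw [Nat.cast_sub (Nat.one_le_pow _ _ (by norm_num))] at h7
      push_cast at h7
      exact sub_eq_zero.1 h7
    have h7 : orderOf (3 : ZMod 11) = 5 := by
      have : Fact (Nat.Prime 5) := ⟨by norm_num⟩
      exact orderOf_eq_prime (by decide) (by decide)
    have h8 : 5 ∣ 2 ^ a := by
      rw [← h7]
      exact orderOf_dvd_of_pow_eq_one h6
    have h9 := (Nat.Prime.dvd_of_dvd_pow (by norm_num : Nat.Prime 5) h8)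
    norm_num at h9

/-- an `l`-group, `l ≠ 11`, normalised by `g`, of even permutations -/
theorem pgroup_eq_bot (hm : m ≤ 13) (hg : orderOf g = 11) {l : ℕ} (hl : l.Prime) (hl11 : l ≠ 11)
    {R : Subgroup (Perm (Fin m))} (hR : IsPGroup l R) (hs : ∀ x ∈ R, sign x = 1)
    (hgR : ∀ i : ℕ, ∀ x ∈ R, g ^ i * x * (g ^ i)⁻¹ ∈ R) : R = ⊥ := by
  have hlf : Fact l.Prime := ⟨hl⟩
  obtain ⟨hcyc, hcard⟩ := isCycle_of_order hm hg
  by_contra hne
  obtain ⟨r, hr, hr1⟩ : ∃ r ∈ R, r ≠ 1 := by
    by_contra hcon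
    push Not at hcon
    exact hne ((Subgroup.eq_bot_iff_forall _).2 hcon)
  -- a point of the support of `g` moved by `R`
  obtain ⟨x, hx, hrx⟩ : ∃ x ∈ g.support, r x ≠ x := by
    by_contra hcon
    push Not at hcon
    apply hr1
    apply eq_one_of_support (hs r hr)
    refine le_trans (Finset.card_le_card ?_) (card_compl hm hg)
    intro y hy
    rw [Finset.mem_compl]
    intro hyg
    exact (mem_support.1 hy) (hcon y hyg)
  have hg11 : g ^ 11 = 1 := by rw [← hg]; exact pow_orderOf_eq_one g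
  by_cases hA : ∃ s ∈ R, ∃ i : ℕ, ¬ 11 ∣ i ∧ s x = (g ^ i) x
  · obtain ⟨s, hsR, i, hi, hsi⟩ := hA
    -- the orbit of `x` contains the support of `g`
    have h1 : ∀ j : ℕ, ∃ t ∈ R, t x = (g ^ (i * j)) x := by
      intro j
      induction j with
      | zero => exact ⟨1, R.one_mem, by simp⟩
      | succ j ih =>
        obtain ⟨t, ht, htx⟩ := ih
        refine ⟨g ^ (i * j) * s * (g ^ (i * j))⁻¹ * t, R.mul_mem (hgR _ s hsR) ht, ?_⟩
        have e : (g ^ (i * j))⁻¹ ((g ^ (i * j)) x) = x := (g ^ (i * j)).symm_apply_apply x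
        rw [Perm.mul_apply, Perm.mul_apply, Perm.mul_apply, htx, e, hsi, ← Perm.mul_apply, ← pow_add, mul_add, mul_one]
    have h2 : ∀ k : ℕ, ∃ t ∈ R, t x = (g ^ k) x := by
      intro k
      obtain ⟨j, hj⟩ : ∃ j : ℕ, i * j ≡ k [MOD 11] := by
        have hcop : Nat.Coprime i 11 := ((Nat.Prime.coprime_iff_not_dvd (by norm_num)).2 hi).symm
        obtain ⟨j, _, hj⟩ := Nat.exists_mul_mod_eq_one_of_coprime hcop (by norm_num)
        refine ⟨j * k, ?_⟩
        have : i * j ≡ 1 [MOD 11] := hj
        have h3 := this.mul_right k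
        rw [one_mul, mul_assoc] at h3
        exact h3
      obtain ⟨t, ht, htx⟩ := h1 j
      refine ⟨t, ht, ?_⟩
      rw [htx]
      have h3 : g ^ (i * j) = g ^ k := by
        rw [pow_eq_pow_iff_modEq, hg]
        exact hj
      rw [h3]
    have h3 : (g.support : Set (Fin m)) ⊆ MulAction.orbit R x := by
      intro y hy
      have hsc : g.SameCycle x y := hcyc.sameCycle (mem_support.1 hx) (mem_support.1 hy)
      obtain ⟨k, _, hk⟩ := hsc.exists_pow_eq'
      obtain ⟨t, ht, htx⟩ := h2 k
      refine ⟨⟨t, ht⟩, ?_⟩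
      change t x = y
      rw [htx, hk]
    have h4 : 11 ≤ Nat.card (MulAction.orbit R x) := by
      rw [Nat.card_coe_set_eq, ← hcard, ← Set.ncard_coe_finset]
      exact Set.ncard_le_ncard h3 (Set.toFinite _)
    have h5 : Nat.card (MulAction.orbit R x) ≤ 13 := by
      refine le_trans ?_ hm
      have h6 := Nat.card_le_card_of_injective (Subtype.val : MulAction.orbit R x → Fin m) Subtype.val_injective
      rwa [Nat.card_eq_fintype_card (α := Fin m), Fintype.card_fin] at h6
    obtain ⟨n, hn⟩ := hR.card_orbit x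
    have h6 : l = 13 ∧ n = 1 := by
      rw [hn] at h4 h5
      have h8 : n ≠ 0 := by
        rintro rfl
        rw [pow_zero] at h4
        omega
      have h9 : l ∣ l ^ n := dvd_pow_self l h8
      obtain ⟨v, hv⟩ : ∃ v, v = l ^ n := ⟨_, rfl⟩
      rw [← hv] at h4 h5 h9
      interval_cases v
      · exact absurd ((Nat.prime_dvd_prime_iff_eq hl (by norm_num)).1 h9) hl11
      · exfalso
        have h10 : 2 ∣ l := Nat.prime_two.dvd_of_dvd_pow (n := n) (by rw [← hv]; norm_num)
        have h11 : 3 ∣ l := Nat.prime_three.dvd_of_dvd_pow (n := n) (by rw [← hv]; norm_num)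
        have h12 := (Nat.prime_dvd_prime_iff_eq Nat.prime_two hl).1 h10
        have h13 := (Nat.prime_dvd_prime_iff_eq Nat.prime_three hl).1 h11
        omega
      · have h10 := (Nat.prime_dvd_prime_iff_eq hl (by norm_num)).1 h9
        refine ⟨h10, ?_⟩
        rw [h10] at hv
        have h11 : 13 ^ 1 = 13 ^ n := by rw [pow_one]; exact hv
        exact (Nat.pow_right_injective (by norm_num) h11).symm
    obtain ⟨rfl, rfl⟩ := h6
    have hcR : Nat.card R = 13 := by
      obtain ⟨a, ha⟩ := IsPGroup.iff_card.1 hR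
      have h7 : Nat.card R ∣ (13 : ℕ).factorial := by
        refine (Subgroup.card_subgroup_dvd_card R).trans ?_
        rw [Nat.card_perm, Nat.card_eq_fintype_card, Fintype.card_fin]
        exact Nat.factorial_dvd_factorial hm
      have h8 : 13 ∣ Nat.card R := by
        have h9 := (MulAction.stabilizer R x).index_dvd_card
        rw [MulAction.index_stabilizer, ← Nat.card_coe_set_eq, hn, pow_one] at h9
        exact h9
      have h9 : a = 1 := by
        rw [ha] at h7 h8
        have h10 : a < 2 := by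
          by_contra hcon
          have h11 : 13 ^ 2 ∣ 13 ^ a := Nat.pow_dvd_pow _ (by omega)
          exact absurd (h11.trans h7) (by decide)
        have h11 : a ≠ 0 := by
          rintro rfl
          norm_num at h8
        omega
      rw [ha, h9, pow_one]
    -- a fixed point of `g` on `R \ {1}`
    have hf11 : Fact (Nat.Prime 11) := ⟨by norm_num⟩
    let f : Function.End R := fun y => ⟨g * y * g⁻¹, by simpa using hgR 1 y y.2⟩
    have hfp : ∀ k : ℕ, ∀ y : R, (((f ^ k) y : R) : Perm (Fin m)) = g ^ k * y * (g ^ k)⁻¹ := by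
      intro k
      induction k with
      | zero =>
        intro y
        simp
        rfl
      | succ k ih =>
        intro y
        have e : (f ^ (k + 1)) y = (f ^ k) (f y) := by
          rw [pow_succ]
          rfl
        rw [e, ih, pow_succ]
        change g ^ k * (g * y * g⁻¹) * (g ^ k)⁻¹ = _
        group
    have hf : f ^ 11 ^ 1 = 1 := by
      funext y
      apply Subtype.ext
      rw [hfp, pow_one, hg11]
      simp
      rfl
    classical
    let : Fintype R := Fintype.ofFinite _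
    have h7 := card_fixedPoints_modEq hf
    rw [← Nat.card_eq_fintype_card, hcR] at h7
    obtain ⟨y, hy⟩ : ∃ y : f.fixedPoints, ((y : R) : Perm (Fin m)) ≠ 1 := by
      by_contra hcon
      push Not at hcon
      have h8 : Fintype.card f.fixedPoints ≤ 1 := by
        rw [Fintype.card_le_one_iff]
        intro a b
        apply Subtype.ext
        apply Subtype.ext
        rw [hcon a, hcon b]
      have h9 : Fintype.card f.fixedPoints = 0 ∨ Fintype.card f.fixedPoints = 1 := by omega
      rcases h9 with h9 | h9 <;> rw [h9] at h7 <;> exact absurd h7 (by decide)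
    have hyc : g * (y : R) * g⁻¹ = ((y : R) : Perm (Fin m)) := congrArg Subtype.val y.2
    have hyz := mem_zpowers_of_commute hm hg (hs _ (y : R).2) (mul_inv_eq_iff_eq_mul.1 hyc).symm
    have h8 : orderOf ((y : R) : Perm (Fin m)) ∣ 11 := by
      rw [← hg]
      exact orderOf_dvd_of_mem_zpowers hyz
    have h9 : orderOf ((y : R) : Perm (Fin m)) ∣ 13 := by
      rw [Subgroup.orderOf_coe, ← hcR]
      exact orderOf_dvd_natCard _
    have h10 : orderOf ((y : R) : Perm (Fin m)) ∣ 1 := by
      have := Nat.dvd_gcd h8 h9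
      exact this
    exact hy (orderOf_eq_one_iff.1 (Nat.dvd_one.1 h10))
  · -- 22 points
    push Not at hA
    have h1 : Function.Injective (fun p : Fin 11 × Fin 2 => (g ^ (p.1 : ℕ)) ((r ^ (p.2 : ℕ)) x)) := by
      rintro ⟨i, a⟩ ⟨j, b⟩ he
      have he' : (g ^ (i : ℕ)) ((r ^ (a : ℕ)) x) = (g ^ (j : ℕ)) ((r ^ (b : ℕ)) x) := he
      have hi := i.2
      have hj := j.2
      have h3 : (r ^ (a : ℕ)) x = (g ^ (11 - (i : ℕ) + j)) ((r ^ (b : ℕ)) x) := by
        have h4 := congrArg (g ^ (11 - (i : ℕ))) he'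
        have e1 : ∀ (k : ℕ) (y : Fin m), (g ^ (11 - (i : ℕ))) ((g ^ k) y) = (g ^ (11 - (i : ℕ) + k)) y := by
          intro k y
          rw [pow_add, Perm.mul_apply]
        rw [e1, e1, Nat.sub_add_cancel hi.le, hg11, one_apply] at h4
        exact h4
      have h4 : 11 ∣ 11 - (i : ℕ) + j := by
        by_contra hcon
        refine hA ((g ^ (11 - (i : ℕ) + j) * r ^ (b : ℕ) * (g ^ (11 - (i : ℕ) + j))⁻¹)⁻¹ * r ^ (a : ℕ)) ?_ _ hcon ?_
        · exact R.mul_mem (R.inv_mem (hgR _ _ (R.pow_mem hr _))) (R.pow_mem hr _)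
        · rw [Perm.mul_apply, h3, ← Perm.mul_apply, ← Perm.mul_apply]
          congr 1
          group
      have h5 : (i : ℕ) = j := by omega
      have h6 : i = j := Fin.ext h5
      subst h6
      have h7 : (r ^ (a : ℕ)) x = (r ^ (b : ℕ)) x := (g ^ (i : ℕ)).injective he'
      have h8 : a = b := by
        fin_cases a <;> fin_cases b <;> simp at h7 ⊢
        · exact hrx h7.symm
        · exact hrx h7
      rw [h8]
    have h2 := Fintype.card_le_of_injective _ h1
    simp at h2
    omega

/-- **no subgroup of order prime to 11 is normalised by `g`** -/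
theorem inv_eq_bot (hm : m ≤ 13) (hg : orderOf g = 11) {L : Subgroup (Perm (Fin m))} (hs : ∀ x ∈ L, sign x = 1)
    (hL : ∀ x ∈ L, g * x * g⁻¹ ∈ L) (h11 : ¬ 11 ∣ Nat.card L) : L = ⊥ := by
  by_contra hne
  have hcard : Nat.card L ≠ 1 := fun h => hne (Subgroup.card_eq_one.1 h)
  obtain ⟨l, hl, hlL⟩ := Nat.exists_prime_and_dvd hcard
  have hlf : Fact l.Prime := ⟨hl⟩
  have hl11 : l ≠ 11 := by
    rintro rfl
    exact h11 hlL
  have hgn : g ∈ Subgroup.normalizer (L : Set (Perm (Fin m))) := by
    rw [Subgroup.mem_normalizer_iff]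
    intro x
    refine ⟨hL x, fun hx => ?_⟩
    have hpow : ∀ k : ℕ, ∀ y ∈ L, g ^ k * y * (g ^ k)⁻¹ ∈ L := by
      intro k
      induction k with
      | zero => intro y hy; simpa using hy
      | succ k ih =>
        intro y hy
        have e : g ^ (k + 1) * y * (g ^ (k + 1))⁻¹ = g * (g ^ k * y * (g ^ k)⁻¹) * g⁻¹ := by
          rw [pow_succ']
          group
        rw [e]
        exact hL _ (ih y hy)
    have h1 := hpow 10 _ hx
    have hg11 : g ^ 11 = 1 := by rw [← hg]; exact pow_orderOf_eq_one g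
    have e : g ^ 10 * (g * x * g⁻¹) * (g ^ 10)⁻¹ = g ^ 11 * x * (g ^ 11)⁻¹ := by group
    rw [e, hg11, one_mul, inv_one, mul_one] at h1
    exact h1
  obtain ⟨R, hR⟩ := Cfsg.Agent.S0025.exists_invariant_sylow (zpowers g) L (by
      rw [Subgroup.zpowers_le]
      exact hgn) (by
      rw [Nat.card_zpowers, hg]
      exact (Nat.Prime.coprime_iff_not_dvd (by norm_num)).2 h11) (Or.inl inferInstance) l
  have h1 : (R : Subgroup L).map L.subtype = ⊥ := by
    refine pgroup_eq_bot hm hg hl hl11 (R.isPGroup'.map _) ?_ ?_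
    · rintro _ ⟨x, _, rfl⟩
      exact hs _ x.2
    · intro i x hx
      have h2 : g ^ i ∈ Subgroup.normalizer (((R : Subgroup L).map L.subtype : Subgroup (Perm (Fin m))) : Set (Perm (Fin m))) :=
        hR (Subgroup.pow_mem _ (Subgroup.mem_zpowers g) i)
      exact (Subgroup.mem_normalizer_iff.1 h2 x).1 hx
  rw [Subgroup.map_eq_bot_iff_of_injective _ L.subtype_injective] at h1
  have h2 := R.card_eq_multiplicity
  rw [h1, Subgroup.card_bot] at h2
  have h3 : (Nat.card L).factorization l = 0 := by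
    by_contra hcon
    have h4 : 1 < l ^ (Nat.card L).factorization l := Nat.one_lt_pow hcon hl.one_lt
    omega
  have h4 := (hl.dvd_iff_one_le_factorization Nat.card_pos.ne').1 hlL
  omega

end

end Cfsg.Agent.H168.EP
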